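import Mathlib
import Groth.Prelude.Def_DCoh4
import Groth.Agent.Lib.Helper5.Misc.TensorSheaf
import Groth.Agent.Lib.Helper5.Stalk.Adj

/-!
# Restriction to an open subscheme commutes with the presheaf tensor product
-/
set_option autoImplicit false
set_option linter.unusedSectionVars false
set_option linter.unusedVariables false
universe u
open CategoryTheory CategoryTheory.Limits MonoidalCategory Opposite TopologicalSpace
  AlgebraicGeometry TensorProduct
open Groth.Agent.Lib.Helper5.Misc.StalkTensor Groth.Agent.Lib.Helper5.StalkAdj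

namespace Groth.Agent.Lib.Helper5.RestrTen

section Mu

variable {R S : Type u} [CommRing R] [CommRing S] (f : R →+* S)

/-- the comparison map `M₁|_R ⊗_R M₂|_R ⟶ (M₁ ⊗_S M₂)|_R`, definitional on pure tensors -/
noncomputable def muHom (M₁ M₂ : ModuleCat.{u} S) :
    (ModuleCat.restrictScalars f).obj M₁ ⊗ (ModuleCat.restrictScalars f).obj M₂ ⟶
      (ModuleCat.restrictScalars f).obj (M₁ ⊗ M₂) :=
  ModuleCat.MonoidalCategory.tensorLift
    (M₃ := (ModuleCat.restrictScalars f).obj (M₁ ⊗ M₂))
    (fun m₁ m₂ => ((show M₁ from m₁) ⊗ₜ[S] (show M₂ from m₂) : M₁ ⊗[S] M₂))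
    (fun a b c => TensorProduct.add_tmul _ _ _)
    (fun a m n => rfl)
    (fun a b c => TensorProduct.tmul_add _ _ _)
    (fun a m n => TensorProduct.tmul_smul (f a) (show M₁ from m) (show M₂ from n))

lemma muHom_tmul (M₁ M₂ : ModuleCat.{u} S) (a : (ModuleCat.restrictScalars f).obj M₁)
    (b : (ModuleCat.restrictScalars f).obj M₂) :
    (muHom f M₁ M₂).hom (a ⊗ₜ[R] b) = ((show M₁ from a) ⊗ₜ[S] (show M₂ from b) : M₁ ⊗[S] M₂) :=
  rfl

/-- `muHom` along a bijective ring map is an isomorphism -/
theorem isIso_muHom (hf : Function.Bijective f) (M₁ M₂ : ModuleCat.{u} S) :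
    IsIso (muHom f M₁ M₂) := by
  rw [ConcreteCategory.isIso_iff_bijective]
  let inv : (M₁ ⊗[S] M₂) →+ ((ModuleCat.restrictScalars f).obj M₁ ⊗[R]
      (ModuleCat.restrictScalars f).obj M₂) :=
    TensorProduct.liftAddHom
      { toFun := fun m₁ =>
          { toFun := fun m₂ => (show (ModuleCat.restrictScalars f).obj M₁ from m₁) ⊗ₜ[R]
              (show (ModuleCat.restrictScalars f).obj M₂ from m₂)
            map_zero' := TensorProduct.tmul_zero _ _
            map_add' := fun a b => TensorProduct.tmul_add _ _ _ }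
        map_zero' := by ext; exact TensorProduct.zero_tmul _ _
        map_add' := fun a b => by ext; exact TensorProduct.add_tmul _ _ _ }
      (fun s m₁ m₂ => by
        obtain ⟨r, rfl⟩ := hf.2 s
        exact TensorProduct.smul_tmul (R := R) (R' := R) r
          (show (ModuleCat.restrictScalars f).obj M₁ from m₁)
          (show (ModuleCat.restrictScalars f).obj M₂ from m₂))
  let mu : ((ModuleCat.restrictScalars f).obj M₁ ⊗[R] (ModuleCat.restrictScalars f).obj M₂) →+
      (M₁ ⊗[S] M₂) := (muHom f M₁ M₂).hom.toAddMonoidHom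
  have hmu : ∀ (a : (ModuleCat.restrictScalars f).obj M₁)
      (b : (ModuleCat.restrictScalars f).obj M₂),
      mu (a ⊗ₜ[R] b) = (show M₁ from a) ⊗ₜ[S] (show M₂ from b) :=
    fun a b => rfl
  have hinv : ∀ (a : M₁) (b : M₂), inv (a ⊗ₜ[S] b) =
      (show (ModuleCat.restrictScalars f).obj M₁ from a) ⊗ₜ[R]
        (show (ModuleCat.restrictScalars f).obj M₂ from b) := fun a b => rfl
  have h1 : ∀ t, inv (mu t) = t := by
    intro t
    induction t using TensorProduct.induction_on with
    | zero => rw [map_zero, map_zero]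
    | tmul a b => rw [hmu, hinv]
    | add a b ha hb => rw [map_add, map_add, ha, hb]
  have h2 : ∀ t, mu (inv t) = t := by
    intro t
    induction t using TensorProduct.induction_on with
    | zero => rw [map_zero, map_zero]
    | tmul a b => rw [hinv, hmu]
    | add a b ha hb => rw [map_add, map_add, ha, hb]
  exact ⟨Function.LeftInverse.injective h1, Function.RightInverse.surjective h2⟩

end Mu

section ResP

variable {X U : Scheme.{u}} (j : U ⟶ X) [IsOpenImmersion j]

/-- the comparison of structure presheaves -/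
noncomputable def ringMap : (U.presheaf ⋙ forget₂ CommRingCat RingCat) ⟶
    j.opensFunctor.op ⋙ (X.presheaf ⋙ forget₂ CommRingCat RingCat) :=
  Functor.whiskerRight
    ({ app := fun V => (j.appIso V.unop).inv } : U.presheaf ⟶ j.opensFunctor.op ⋙ X.presheaf)
    (forget₂ CommRingCat RingCat)

/-- presheaf-level restriction along an open immersion -/
noncomputable def resP : PMod X.presheaf ⥤ PMod U.presheaf :=
  PresheafOfModules.pushforward (F := j.opensFunctor) (ringMap j)

lemma restrictFunctor_comp_fgtS :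
    Scheme.Modules.restrictFunctor j ⋙ fgtS U = fgtS X ⋙ resP j := rfl

/-- the ring map on sections -/
noncomputable abbrev secMap (V : (Opens U)ᵒᵖ) :
    U.presheaf.obj V →+* X.presheaf.obj (op (j ''ᵁ V.unop)) :=
  (j.appIso V.unop).inv.hom

lemma secMap_bijective (V : (Opens U)ᵒᵖ) : Function.Bijective (secMap j V) :=
  (ConcreteCategory.isIso_iff_bijective (j.appIso V.unop).inv).1 inferInstance

/-- the comparison on sections -/
noncomputable def muIso (P Q : PMod X.presheaf) (V : (Opens U)ᵒᵖ) :
    ((resP j).obj P ⊗ (resP j).obj Q).obj V ≅ ((resP j).obj (P ⊗ Q)).obj V :=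
  @asIso _ _ _ _ (muHom (secMap j V)
    (P.obj (op (j ''ᵁ V.unop))) (Q.obj (op (j ''ᵁ V.unop))))
    (isIso_muHom (secMap j V) (secMap_bijective j V)
      (P.obj (op (j ''ᵁ V.unop))) (Q.obj (op (j ''ᵁ V.unop))))

/-- presheaf-level restriction commutes with the tensor product -/
noncomputable def resPTensor (P Q : PMod X.presheaf) :
    (resP j).obj P ⊗ (resP j).obj Q ≅ (resP j).obj (P ⊗ Q) :=
  PresheafOfModules.isoMk (muIso j P Q) (by
    intro V W f
    apply ModuleCat.MonoidalCategory.tensor_ext
    intro m n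
    rfl)

lemma resPTensor_naturality_left {P P' : PMod X.presheaf} (a : P ⟶ P') (Q : PMod X.presheaf) :
    ((resP j).map a ▷ (resP j).obj Q) ≫ (resPTensor j P' Q).hom =
      (resPTensor j P Q).hom ≫ (resP j).map (a ▷ Q) := by
  apply PresheafOfModules.hom_ext
  intro V
  apply ModuleCat.MonoidalCategory.tensor_ext
  intro m n
  rfl

lemma resPTensor_naturality_right (P : PMod X.presheaf) {Q Q' : PMod X.presheaf} (b : Q ⟶ Q') :
    ((resP j).obj P ◁ (resP j).map b) ≫ (resPTensor j P Q').hom =
      (resPTensor j P Q).hom ≫ (resP j).map (P ◁ b) := by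
  apply PresheafOfModules.hom_ext
  intro V
  apply ModuleCat.MonoidalCategory.tensor_ext
  intro m n
  rfl

end ResP

end Groth.Agent.Lib.Helper5.RestrTen
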