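import Mathlib
import Groth.Prelude.Def_DCoh4
import Groth.Agent.Lib.Helper5.Misc.TensorSheaf
import Groth.Agent.Lib.Helper5.Stalk.Adj
import Groth.Agent.Lib.Helper5.StalkTen.TotFun
import Groth.Agent.Lib.Helper5.StalkTen.StalkTenS
import Groth.Agent.Lib.Helper5.RestrTen.RestrTenP

/-!
# Restriction to an open subscheme commutes with the tensor product of `𝒪_X`-modules
-/
set_option autoImplicit false
set_option linter.unusedSectionVars false
set_option linter.unusedVariables false
universe u
open CategoryTheory CategoryTheory.Limits MonoidalCategory Opposite TopologicalSpace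
  AlgebraicGeometry TensorProduct
open Groth.Agent.Lib.Helper5.Misc.StalkTensor Groth.Agent.Lib.Helper5.StalkAdj
  Groth.Agent.Lib.Helper5.TensorSheaf

namespace Groth.Agent.Lib.Helper5.RestrTen

section Adjunct

variable {C : Type u} [SmallCategory C] {J : GrothendieckTopology C} {O : Sheaf J CommRingCat.{u}}

lemma adjunct_naturality_left {Q' Q : PM O} {G : ModSite.Mod O} (a : Q' ⟶ Q)
    (φ : Q ⟶ (fgt O).obj G) : adjunct (a ≫ φ) = (shf O).map a ≫ adjunct φ :=
  Adjunction.homEquiv_naturality_left_symm (adj O) a φ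

lemma adjunct_naturality_right {Q : PM O} {G G' : ModSite.Mod O}
    (φ : Q ⟶ (fgt O).obj G) (g : G ⟶ G') : adjunct (φ ≫ (fgt O).map g) = adjunct φ ≫ g :=
  Adjunction.homEquiv_naturality_right_symm (adj O) φ g

lemma iso_sq {D : Type*} [Category D] {A B A' B' : D} (T : A ≅ B) (T' : A' ≅ B')
    (W : A ⟶ A') (S : B ⟶ B') (h : W ≫ T'.hom = T.hom ≫ S) : S ≫ T'.inv = T.inv ≫ W := by
  rw [Iso.comp_inv_eq, Category.assoc, Iso.eq_inv_comp]
  exact h.symm

lemma map_sq {D E : Type*} [Category D] [Category E] (G : D ⥤ E) {A B A' B' : D}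
    {a : A ⟶ B} {b : B ⟶ B'} {a' : A ⟶ A'} {b' : A' ⟶ B'} (h : a ≫ b = a' ≫ b') :
    G.map a ≫ G.map b = G.map a' ≫ G.map b' :=
  (G.map_comp _ _).symm.trans ((congrArg (fun t => G.map t) h).trans (G.map_comp _ _))

end Adjunct

variable {X U : Scheme.{u}} (j : U ⟶ X) [IsOpenImmersion j]

lemma W_resP_map {P Q : PMod X.presheaf} (f : P ⟶ Q)
    (hf : (Opens.grothendieckTopology X).W ((PresheafOfModules.toPresheaf _).map f)) :
    (Opens.grothendieckTopology U).W
      ((PresheafOfModules.toPresheaf _).map ((resP j).map f)) := by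
  rw [GrothendieckTopology.W_iff_isLocallyBijective] at hf
  rw [GrothendieckTopology.W_iff_isLocallyBijective]
  obtain ⟨h1, h2⟩ := hf
  have e1 := Presheaf.isLocallyInjective_whisker (Opens.grothendieckTopology U)
    (Opens.grothendieckTopology X) j.opensFunctor ((PresheafOfModules.toPresheaf _).map f)
  have e2 := Presheaf.isLocallySurjective_whisker (Opens.grothendieckTopology U)
    (Opens.grothendieckTopology X) j.opensFunctor ((PresheafOfModules.toPresheaf _).map f)
  exact ⟨e1, e2⟩

/-- the restricted unit -/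
noncomputable def resUnit (P : PMod X.presheaf) :
    (resP j).obj P ⟶
      (fgt U.sheaf).obj ((Scheme.Modules.restrictFunctor j).obj ((shf X.sheaf).obj P)) :=
  (resP j).map ((unit' X.sheaf).app P)

/-- the comparison `a_U (P|_U) ⟶ (a_X P)|_U` -/
noncomputable def compMap (P : PMod X.presheaf) :
    (shf U.sheaf).obj ((resP j).obj P) ⟶
      (Scheme.Modules.restrictFunctor j).obj ((shf X.sheaf).obj P) :=
  adjunct (O := U.sheaf) (resUnit j P)

instance isIso_compMap (P : PMod X.presheaf) : IsIso (compMap j P) :=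
  isIso_adjunct_of_W (O := U.sheaf) _ (W_resP_map j _ (W_unit' (O := X.sheaf) P))

/-- `compMap` as an isomorphism -/
noncomputable def compIso (P : PMod X.presheaf) :
    (shf U.sheaf).obj ((resP j).obj P) ≅
      (Scheme.Modules.restrictFunctor j).obj ((shf X.sheaf).obj P) :=
  @asIso _ _ _ _ (compMap j P) (isIso_compMap j P)

lemma compMap_naturality {P P' : PMod X.presheaf} (a : P ⟶ P') :
    (shf U.sheaf).map ((resP j).map a) ≫ compMap j P' =
      compMap j P ≫ (Scheme.Modules.restrictFunctor j).map ((shf X.sheaf).map a) := by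
  unfold compMap
  rw [← adjunct_naturality_left, ← adjunct_naturality_right]
  congr 1
  unfold resUnit
  have h := (unit' X.sheaf).naturality a
  exact ((resP j).map_comp _ _).symm.trans ((congrArg (fun t => (resP j).map t) h).trans
    ((resP j).map_comp _ _))

/-- **restriction commutes with the tensor product** -/
noncomputable def restrictTensorIso (M N : X.Modules) :
    (Scheme.Modules.restrictFunctor j).obj ((DCoh.tensorBi.obj M).obj N) ≅
      (DCoh.tensorBi.obj ((Scheme.Modules.restrictFunctor j).obj M)).obj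
        ((Scheme.Modules.restrictFunctor j).obj N) :=
  (compIso j ((fgtS X).obj M ⊗ (fgtS X).obj N)).symm ≪≫
    (shf U.sheaf).mapIso (resPTensor j ((fgtS X).obj M) ((fgtS X).obj N)).symm

lemma restrictTensorIso_naturality_left {M M' : X.Modules} (f : M ⟶ M') (N : X.Modules) :
    (Scheme.Modules.restrictFunctor j).map ((DCoh.tensorBi.map f).app N) ≫
        (restrictTensorIso j M' N).hom =
      (restrictTensorIso j M N).hom ≫
        (DCoh.tensorBi.map ((Scheme.Modules.restrictFunctor j).map f)).app
          ((Scheme.Modules.restrictFunctor j).obj N) := by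
  have h1 : (Scheme.Modules.restrictFunctor j).map
        ((shf X.sheaf).map ((fgtS X).map f ▷ (fgtS X).obj N)) ≫
        (compIso j ((fgtS X).obj M' ⊗ (fgtS X).obj N)).inv =
      (compIso j ((fgtS X).obj M ⊗ (fgtS X).obj N)).inv ≫
        (shf U.sheaf).map ((resP j).map ((fgtS X).map f ▷ (fgtS X).obj N)) :=
    iso_sq _ _ _ _ (compMap_naturality j _)
  have h2 : (shf U.sheaf).map ((resP j).map ((fgtS X).map f ▷ (fgtS X).obj N)) ≫
        (shf U.sheaf).map (resPTensor j ((fgtS X).obj M') ((fgtS X).obj N)).inv =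
      (shf U.sheaf).map (resPTensor j ((fgtS X).obj M) ((fgtS X).obj N)).inv ≫
        (shf U.sheaf).map ((resP j).map ((fgtS X).map f) ▷ (resP j).obj ((fgtS X).obj N)) :=
    map_sq _ (iso_sq _ _ _ _ (resPTensor_naturality_left j _ _))
  exact Groth.Agent.Lib.Helper5.StalkTenS.comm_sq_comp _ _ _ _ _ _ _ h1 h2

lemma restrictTensorIso_naturality_right (M : X.Modules) {N N' : X.Modules} (g : N ⟶ N') :
    (Scheme.Modules.restrictFunctor j).map ((DCoh.tensorBi.obj M).map g) ≫
        (restrictTensorIso j M N').hom =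
      (restrictTensorIso j M N).hom ≫
        (DCoh.tensorBi.obj ((Scheme.Modules.restrictFunctor j).obj M)).map
          ((Scheme.Modules.restrictFunctor j).map g) := by
  have h1 : (Scheme.Modules.restrictFunctor j).map
        ((shf X.sheaf).map ((fgtS X).obj M ◁ (fgtS X).map g)) ≫
        (compIso j ((fgtS X).obj M ⊗ (fgtS X).obj N')).inv =
      (compIso j ((fgtS X).obj M ⊗ (fgtS X).obj N)).inv ≫
        (shf U.sheaf).map ((resP j).map ((fgtS X).obj M ◁ (fgtS X).map g)) :=
    iso_sq _ _ _ _ (compMap_naturality j _)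
  have h2 : (shf U.sheaf).map ((resP j).map ((fgtS X).obj M ◁ (fgtS X).map g)) ≫
        (shf U.sheaf).map (resPTensor j ((fgtS X).obj M) ((fgtS X).obj N')).inv =
      (shf U.sheaf).map (resPTensor j ((fgtS X).obj M) ((fgtS X).obj N)).inv ≫
        (shf U.sheaf).map ((resP j).obj ((fgtS X).obj M) ◁ (resP j).map ((fgtS X).map g)) :=
    map_sq _ (iso_sq _ _ _ _ (resPTensor_naturality_right j _ _))
  exact Groth.Agent.Lib.Helper5.StalkTenS.comm_sq_comp _ _ _ _ _ _ _ h1 h2

/-- the restricted complex -/
noncomputable abbrev resCx (F : CochainComplex X.Modules ℤ) : CochainComplex U.Modules ℤ :=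
  ((Scheme.Modules.restrictFunctor j).mapHomologicalComplex (ComplexShape.up ℤ)).obj F

/-- **restriction commutes with the total tensor complex** -/
noncomputable def restrictTotIso (F K : CochainComplex X.Modules ℤ) :
    resCx j ((DCoh.tensorCx.obj F).obj K) ≅ (DCoh.tensorCx.obj (resCx j F)).obj (resCx j K) :=
  Groth.Agent.Lib.Helper5.TotFun.totIso DCoh.tensorBi DCoh.tensorBi
    (Scheme.Modules.restrictFunctor j) (Scheme.Modules.restrictFunctor j)
    (Scheme.Modules.restrictFunctor j)
    (fun P N => restrictTensorIso j P N)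
    (fun f N => restrictTensorIso_naturality_left j f N)
    (fun P _ _ g => restrictTensorIso_naturality_right j P g) F K

end Groth.Agent.Lib.Helper5.RestrTen
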